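import Mathlib.RingTheory.Filtration
import Mathlib.RingTheory.Finiteness.Cardinality
import Mathlib.LinearAlgebra.Quotient.Basic

/-!
# Artin–Rees for modules of homomorphisms
-/

namespace Groth.Agent.ARHom

universe u
variable {R : Type u} [CommRing R]

theorem pi_mem_pow_smul {ι : Type} [Fintype ι] {N : Type u} [AddCommGroup N] [Module R N] (J : Ideal R)
    (q : ι → N) (h : ∀ i, q i ∈ J • (⊤ : Submodule R N)) : q ∈ J • (⊤ : Submodule R (ι → N)) := by
  classical
  rw [← Finset.univ_sum_single q]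
  refine Submodule.sum_mem _ fun i _ => ?_
  have := Submodule.mem_map_of_mem (f := LinearMap.single R (fun _ : ι => N) i) (h i)
  rw [Submodule.map_smul''] at this
  exact Submodule.smul_mono le_rfl le_top this

theorem comp_mem_pow_smul {ι : Type} [Fintype ι] {N : Type u} [AddCommGroup N] [Module R N] (J : Ideal R)
    {q : ι → N} (h : q ∈ J • (⊤ : Submodule R (ι → N))) (i : ι) : q i ∈ J • (⊤ : Submodule R N) := by
  have := Submodule.mem_map_of_mem (f := LinearMap.proj (R := R) (φ := fun _ : ι => N) i) h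
  rw [Submodule.map_smul''] at this
  exact Submodule.smul_mono le_rfl le_top this

/-- Artin-Rees for the range of a map -/
theorem exists_preimage_pow [IsNoetherianRing R] (I : Ideal R) {P Q : Type u} [AddCommGroup P] [Module R P]
    [AddCommGroup Q] [Module R Q] [Module.Finite R Q] (T : P →ₗ[R] Q) :
    ∃ c : ℕ, ∀ m, c ≤ m → ∀ x, T x ∈ I ^ m • (⊤ : Submodule R Q) →
      ∃ δ ∈ I ^ (m - c) • (⊤ : Submodule R P), T δ = T x := by
  obtain ⟨c, hc⟩ := I.exists_pow_inf_eq_pow_smul (LinearMap.range T)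
  refine ⟨c, fun m hm x hx => ?_⟩
  have h1 : T x ∈ I ^ m • (⊤ : Submodule R Q) ⊓ LinearMap.range T := ⟨hx, x, rfl⟩
  rw [hc m hm] at h1
  have h2 : T x ∈ I ^ (m - c) • Submodule.map T ⊤ := by
    rw [Submodule.map_top]; exact Submodule.smul_mono le_rfl inf_le_right h1
  rw [← Submodule.map_smul''] at h2
  obtain ⟨δ, hδ, e⟩ := h2
  exact ⟨δ, hδ, e⟩



variable [IsNoetherianRing R] (I : Ideal R) (M N : Type u) [AddCommGroup M] [Module R M] [Module.Finite R M]
  [AddCommGroup N] [Module R N] [Module.Finite R N]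

/-- a map into `N/I^m` lifts, up to a shift, to a map into `N` -/
theorem exists_hom_lift :
    ∃ c : ℕ, ∀ (m j : ℕ), c ≤ m + j → ∀ (ψ : M →ₗ[R] N ⧸ (I ^ m • ⊤ : Submodule R N)), ∀ a ∈ I ^ j,
      ∃ φ : M →ₗ[R] N, ∀ x y, Submodule.Quotient.mk y = ψ x →
        φ x - a • y ∈ (I ^ (m + j - c) • ⊤ : Submodule R N) := by
  classical
  obtain ⟨n₀, p, hp⟩ := Module.Finite.exists_fin' R M
  haveI : Module.Finite R (LinearMap.ker p) := Module.IsNoetherian.finite R _
  obtain ⟨b, r, hr⟩ := Module.Finite.exists_fin' R (LinearMap.ker p)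
  let φ : (Fin n₀ → N) →ₗ[R] ((Fin n₀ → R) →ₗ[R] N) :=
    { toFun := fun t => Fintype.linearCombination R t
      map_add' := fun t t' => LinearMap.ext fun v => by simp [Fintype.linearCombination_apply, smul_add, Finset.sum_add_distrib]
      map_smul' := fun c t => LinearMap.ext fun v => by simp [Fintype.linearCombination_apply, Finset.smul_sum, smul_comm (v _) c] }
  have hφ : ∀ t v, φ t v = ∑ i, v i • t i := fun t v => Fintype.linearCombination_apply ..
  let T : (Fin n₀ → N) →ₗ[R] (Fin b → N) :=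
    LinearMap.pi fun k => (LinearMap.applyₗ ((LinearMap.ker p).subtype (r (Pi.single k 1)))).comp φ
  obtain ⟨c, hc⟩ := exists_preimage_pow I T
  refine ⟨c, fun m j hmj ψ a ha => ?_⟩
  choose t ht using fun i => Submodule.Quotient.mk_surjective _ (ψ (p (Pi.single i 1)))
  have hmk : ∀ v, Submodule.Quotient.mk (φ t v) = ψ (p v) := by
    intro v
    conv_rhs => rw [pi_eq_sum_univ' v]
    simp only [hφ, map_sum, map_smul, ← Submodule.mkQ_apply]
    exact Finset.sum_congr rfl fun i _ => congrArg (v i • ·) (ht i)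
  have hT : T (a • t) ∈ I ^ (m + j) • (⊤ : Submodule R (Fin b → N)) := pi_mem_pow_smul _ _ fun k => by
    rw [map_smul, Pi.smul_apply, add_comm, pow_add, Submodule.mul_smul]
    refine Submodule.smul_mem_smul ha ?_
    rw [← Submodule.Quotient.mk_eq_zero]
    show Submodule.Quotient.mk (φ t _) = 0
    rw [hmk, show p ((LinearMap.ker p).subtype (r (Pi.single k 1))) = 0 from (r (Pi.single k 1)).2, map_zero]
  obtain ⟨δ, hδ, hTδ⟩ := hc (m + j) hmj (a • t) hT
  have hker : LinearMap.ker p ≤ LinearMap.ker (φ (a • t - δ)) := by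
    intro v hv
    obtain ⟨w, hw⟩ := hr ⟨v, hv⟩
    have hz : φ (a • t - δ) ∘ₗ (LinearMap.ker p).subtype ∘ₗ r = 0 := by
      refine (Pi.basisFun R (Fin b)).ext fun k => ?_
      simpa [T, map_sub, sub_eq_zero] using (congrFun hTδ k).symm
    have := LinearMap.congr_fun hz w
    simpa [hw] using this
  refine ⟨(LinearMap.ker p).liftQ _ hker ∘ₗ (p.quotKerEquivOfSurjective hp).symm.toLinearMap, fun x y hy => ?_⟩
  obtain ⟨v, rfl⟩ := hp x
  have : (p.quotKerEquivOfSurjective hp).symm (p v) = Submodule.Quotient.mk v := by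
    rw [LinearEquiv.symm_apply_eq]; rfl
  simp only [LinearMap.comp_apply, LinearEquiv.coe_coe, this, Submodule.liftQ_apply, map_sub, map_smul,
    LinearMap.sub_apply, LinearMap.smul_apply]
  rw [sub_right_comm, ← smul_sub]
  refine Submodule.sub_mem _ ?_ ?_
  · refine Submodule.smul_mono_left (Ideal.pow_le_pow_right (Nat.sub_le _ c)) ?_
    rw [add_comm, pow_add, Submodule.mul_smul]
    exact Submodule.smul_mem_smul ha ((Submodule.Quotient.eq _).1 ((hmk v).trans hy.symm))
  · rw [hφ]; exact Submodule.sum_mem _ fun i _ => Submodule.smul_mem _ _ (comp_mem_pow_smul _ hδ i)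

/-- a map with values in `I^n N` is in `I^(n-c) Hom(M,N)` -/
theorem exists_hom_mem :
    ∃ c : ℕ, ∀ n, c ≤ n → ∀ φ : M →ₗ[R] N, (∀ x, φ x ∈ (I ^ n • ⊤ : Submodule R N)) →
      φ ∈ (I ^ (n - c) • ⊤ : Submodule R (M →ₗ[R] N)) := by
  obtain ⟨e, q, hq⟩ := Module.Finite.exists_fin' R M
  let ev : (M →ₗ[R] N) →ₗ[R] (Fin e → N) := LinearMap.pi fun i => LinearMap.applyₗ (q (Pi.single i 1))
  have hev : Function.Injective ev := fun f g hfg => by
    have : f ∘ₗ q = g ∘ₗ q := by
      refine (Pi.basisFun R (Fin e)).ext fun i => ?_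
      simpa [ev] using congrFun hfg i
    ext x; obtain ⟨v, rfl⟩ := hq x; exact LinearMap.congr_fun this v
  obtain ⟨c, hc⟩ := exists_preimage_pow I ev
  refine ⟨c, fun n hn φ h => ?_⟩
  obtain ⟨φ', h', e'⟩ := hc n hn φ (pi_mem_pow_smul _ _ fun i => h _)
  rwa [← hev e']

end Groth.Agent.ARHom
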